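import Cfsg.Agent.FGS.SylowGL
import Cfsg.Agent.Forms.SymplecticOrder
import Cfsg.Agent.SpSum.Tower

/-!
Sylow `r`-subgroups of `Sp_{2n}(q)` for odd primes `r > n` not dividing `q`.
-/

set_option autoImplicit false

namespace CfsgLib.SympSylow

open Matrix Finset CfsgLib.FGS.SylowGL

section Arith

variable {q r : ℕ} [hr : Fact r.Prime]

/-- The smallest `i` with `d ∣ 2 i`, `d` the order of `q` mod `r`. -/
noncomputable def block (q r : ℕ) : ℕ :=
  if Even (orderOf (q : ZMod r)) then orderOf (q : ZMod r) / 2 else orderOf (q : ZMod r)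

theorem dvd_two_mul_iff (i : ℕ) : orderOf (q : ZMod r) ∣ 2 * i ↔ block q r ∣ i := by
  unfold block
  split_ifs with h
  · obtain ⟨c, hc⟩ := h
    rw [hc, show c + c = 2 * c by ring, Nat.mul_div_cancel_left _ (by norm_num),
      Nat.mul_dvd_mul_iff_left (by norm_num : 0 < 2)]
  · exact (Nat.Coprime.dvd_mul_left (Nat.coprime_two_right.2 (Nat.not_even_iff_odd.1 h)))

theorem block_pos (hrq : ¬ r ∣ q) : 0 < block q r := by
  have h := order_pos hrq
  unfold block
  split_ifs with he
  · obtain ⟨c, hc⟩ := he; omega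
  · exact h

theorem block_lt (hrq : ¬ r ∣ q) : orderOf (q : ZMod r) < r := by
  have h0 : (q : ZMod r) ≠ 0 := fun h => hrq ((ZMod.natCast_eq_zero_iff _ _).1 h)
  have := Nat.le_of_dvd (Nat.sub_pos_of_lt hr.out.one_lt)
    (orderOf_dvd_of_pow_eq_one (ZMod.pow_card_sub_one_eq_one h0))
  have h2 := hr.out.two_le
  omega

/-- The `r`-part of `q^(2i) - 1`. -/
theorem factorization_even_pow (hq : 2 ≤ q) (hr2 : r ≠ 2) (hrq : ¬ r ∣ q) {i : ℕ} (hi : 0 < i)
    (hir : i < r) :
    (q ^ (2 * i) - 1).factorization r = if block q r ∣ i then expo q r else 0 := by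
  have hq2 : 2 ≤ q ^ 2 := hq.trans (Nat.le_self_pow two_ne_zero q)
  have hrq2 : ¬ r ∣ q ^ 2 := fun h => hrq (hr.out.dvd_of_dvd_pow h)
  have hiff : ∀ j, orderOf ((q ^ 2 : ℕ) : ZMod r) ∣ j ↔ block q r ∣ j := fun j => by
    rw [← dvd_two_mul_iff, orderOf_dvd_iff_pow_eq_one, orderOf_dvd_iff_pow_eq_one, Nat.cast_pow,
      ← pow_mul]
  have hord : orderOf ((q ^ 2 : ℕ) : ZMod r) = block q r :=
    Nat.dvd_antisymm ((hiff _).2 dvd_rfl) ((hiff _).1 dvd_rfl)
  have hexp : expo (q ^ 2) r = expo q r := by
    rw [← factorization_top hq2 hrq2, hord, ← pow_mul, ← factorization_top hq hrq]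
    unfold block
    set d := orderOf (q : ZMod r) with hd
    split_ifs with he
    · obtain ⟨c, hc⟩ := he
      rw [show 2 * (d / 2) = d by omega]
    · have h1 : 1 ≤ q ^ d := Nat.one_le_pow _ _ (by omega)
      have hfac : q ^ (2 * d) - 1 = (q ^ d + 1) * (q ^ d - 1) := by
        rw [← Nat.sq_sub_sq, one_pow, ← pow_mul, mul_comm]
      have hnd : ¬ r ∣ q ^ d + 1 := by
        rw [← ZMod.natCast_eq_zero_iff, Nat.cast_add, Nat.cast_pow, hd, pow_orderOf_eq_one,
          Nat.cast_one, show (1 : ZMod r) + 1 = ((2 : ℕ) : ZMod r) by norm_num,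
          ZMod.natCast_eq_zero_iff]
        exact fun h => hr2 ((Nat.prime_dvd_prime_iff_eq hr.out Nat.prime_two).1 h)
      have hne : q ^ d - 1 ≠ 0 := by
        have : 2 ≤ q ^ d := hq.trans (Nat.le_self_pow (order_pos hrq).ne' q)
        omega
      rw [hfac, Nat.factorization_mul (by omega) hne, Finsupp.add_apply,
        Nat.factorization_eq_zero_of_not_dvd hnd, zero_add]
  rw [pow_mul, factorization_pow_sub_one hq2 hrq2 hi hir, hexp, hord]

end Arith

variable {F : Type*} [Field F] [Fintype F] {r : ℕ} [hr : Fact r.Prime]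

/-- The exponent of `r` in `|Sp_{2n}(q)|`. -/
theorem factorization_card_Sp {n : ℕ} (hr2 : r ≠ 2) (hn : n < r) (hrq : ¬ r ∣ Fintype.card F) :
    (Nat.card (Matrix.symplecticGroup (Fin n) F)).factorization r =
      (n / block (Fintype.card F) r) * expo (Fintype.card F) r := by
  set q := Fintype.card F
  have hq : 2 ≤ q := Fintype.one_lt_card
  have hne : ∀ i ∈ range n, q ^ (2 * (i + 1)) - 1 ≠ 0 := by
    intro i _
    have : 2 ≤ q ^ (2 * (i + 1)) := hq.trans (Nat.le_self_pow (by omega) q)
    omega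
  rw [CfsgLib.Forms.card_symplecticGroup,
    Nat.factorization_mul (pow_ne_zero _ (by omega)) (Finset.prod_ne_zero_iff.2 hne),
    Finsupp.add_apply, Nat.factorization_pow, Finsupp.smul_apply,
    Nat.factorization_eq_zero_of_not_dvd hrq, smul_zero, zero_add, Nat.factorization_prod hne,
    Finsupp.finsetSum_apply, Finset.sum_congr rfl fun i hi => factorization_even_pow hq hr2 hrq
      (Nat.succ_pos i) (by rw [Finset.mem_range] at hi; omega),
    Finset.sum_ite, Finset.sum_const_zero, add_zero, Finset.sum_const, smul_eq_mul,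
    Nat.card_multiples]

/-- Groups with the same cyclic-type Sylow subgroup. -/
theorem exists_hom_of_embed {G H Z : Type*} [Group G] [Finite G] [Group H] [Finite H] [Group Z]
    {e : ℕ} (f : G →* H) (hf : Function.Injective f) (ψ : Z →* H) (hψ : Function.Injective ψ)
    (hZ : Nat.card Z = r ^ e) (hG : (Nat.card G).factorization r = e)
    (hH : (Nat.card H).factorization r = e) :
    ∃ φ : Z →* G, Function.Injective φ := by
  obtain ⟨P⟩ : Nonempty (Sylow r G) := inferInstance
  have h1 : Nat.card ((P : Subgroup G).map f) = r ^ (Nat.card H).factorization r := by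
    rw [← Nat.card_congr (Subgroup.equivMapOfInjective _ f hf).toEquiv, P.card_eq_multiplicity,
      hG, hH]
  have h2 : Nat.card ψ.range = r ^ (Nat.card H).factorization r := by
    rw [← Nat.card_congr (MonoidHom.ofInjective hψ).toEquiv, hZ, hH]
  let e1 : Z ≃* ψ.range := MonoidHom.ofInjective hψ
  let e2 : (Sylow.ofCard ψ.range h2 : Subgroup H) ≃*
      (Sylow.ofCard ((P : Subgroup G).map f) h1 : Subgroup H) :=
    (Sylow.ofCard ψ.range h2).equiv (Sylow.ofCard _ h1)
  let e3 : (P : Subgroup G) ≃* (P : Subgroup G).map f := Subgroup.equivMapOfInjective _ f hf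
  exact ⟨(P : Subgroup G).subtype.comp ((e1.trans e2).trans e3.symm).toMonoidHom,
    (Subgroup.subtype_injective _).comp ((e1.trans e2).trans e3.symm).injective⟩

omit [Fintype F] in
/-- `A ↦ diag(A, A⁻ᵀ)`. -/
noncomputable def leviHom (c : ℕ) : GL (Fin c) F →* Matrix.symplecticGroup (Fin c) F where
  toFun A := ⟨fromBlocks A.1 0 0 ((A⁻¹).1)ᵀ, by
    rw [SymplecticGroup.mem_iff, Matrix.J, fromBlocks_transpose, fromBlocks_multiply,
      fromBlocks_multiply]
    simp [← transpose_mul]⟩
  map_one' := Subtype.ext (by simp)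
  map_mul' A B := Subtype.ext (by simp [fromBlocks_multiply, transpose_mul])

omit [Fintype F] in
theorem leviHom_injective (c : ℕ) : Function.Injective (leviHom (F := F) c) := fun _ _ h =>
  Units.ext (fromBlocks_inj.1 (congrArg Subtype.val h)).1

/-- A cyclic subgroup of the top order in the smallest block. -/
theorem exists_cyclic_block (hr2 : r ≠ 2) (hrq : ¬ r ∣ Fintype.card F) :
    ∃ φ : Multiplicative (ZMod (r ^ expo (Fintype.card F) r)) →*
      Matrix.symplecticGroup (Fin (block (Fintype.card F) r)) F, Function.Injective φ := by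
  set q := Fintype.card F
  set d := orderOf (q : ZMod r) with hd
  obtain ⟨ψ, hψ⟩ : ∃ ψ : Multiplicative (ZMod (r ^ expo q r)) →* GL (Fin d) F,
      Function.Injective ψ := exists_cyclic (F := F) hrq
  by_cases he : Even d
  · have hdr : d < r := block_lt hrq
    have hb : 2 * block q r = d := by
      obtain ⟨c, hc⟩ := he
      unfold block
      rw [← hd, if_pos ⟨c, hc⟩]
      omega
    let e : Fin (block q r) ⊕ Fin (block q r) ≃ Fin d :=
      Fintype.equivFinOfCardEq (by simp; omega)
    let f : Matrix.symplecticGroup (Fin (block q r)) F →* GL (Fin d) F :=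
      (CfsgLib.Linear.glReindex (R := F) e).toMonoidHom.comp
        ((Matrix.symplecticGroup (Fin (block q r)) F).subtype.toHomUnits)
    have hf : Function.Injective f :=
      (CfsgLib.Linear.glReindex (R := F) e).injective.comp fun A B h =>
        Subtype.ext (congrArg Units.val h)
    refine exists_hom_of_embed f hf ψ hψ
      (by rw [Nat.card_congr Multiplicative.toAdd, Nat.card_zmod]) ?_ ?_
    · rw [factorization_card_Sp hr2 (by omega) hrq, Nat.div_self (block_pos hrq), one_mul]
    · rw [factorization_card_GL hdr hrq, Nat.div_self (order_pos hrq), one_mul]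
  · rw [show block q r = d by unfold block; rw [← hd, if_neg he]]
    exact ⟨(leviHom d).comp ψ, (leviHom_injective d).comp hψ⟩

/-- Repeating a block. -/
theorem exists_blocks {Z : Type*} [Group Z] {c : ℕ} (φ : Z →* Matrix.symplecticGroup (Fin c) F)
    (hφ : Function.Injective φ) : ∀ k n : ℕ, k * c ≤ n →
      ∃ Φ : (Fin k → Z) →* Matrix.symplecticGroup (Fin n) F, Function.Injective Φ := by
  intro k
  induction k with
  | zero => exact fun n _ => ⟨1, fun a b _ => funext fun i => i.elim0⟩
  | succ k ih =>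
    intro n hn
    rw [Nat.succ_mul] at hn
    obtain ⟨Ψ, hΨ⟩ := ih (n - c) (by omega)
    let e : Fin c ⊕ Fin (n - c) ≃ Fin n := Fintype.equivFinOfCardEq (by simp; omega)
    let h0 : (Fin (k + 1) → Z) →* Z := Pi.evalMonoidHom (fun _ => Z) 0
    let h1 : (Fin (k + 1) → Z) →* (Fin k → Z) :=
      MonoidHom.mk' (fun a i => a i.succ) fun a b => rfl
    refine ⟨(CfsgLib.SpSum.blk e).comp ((φ.comp h0).prod (Ψ.comp h1)), fun a b h => ?_⟩
    have h' := CfsgLib.SpSum.blk_injective e h
    obtain ⟨ha, hb⟩ := Prod.ext_iff.1 h'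
    funext i
    cases i using Fin.cases with
    | zero => exact hφ ha
    | succ i => exact congrFun (hΨ hb) i

end CfsgLib.SympSylow
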